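/-
Finite fields of order an odd power of two: the arithmetic behind the uniqueness of the Suzuki groups.
-/
import Mathlib

set_option autoImplicit false

namespace CfsgLib.SuzukiUniq

variable {F : Type*} [Field F] [Fintype F] [CharP F 2] {n : ℕ}

theorem two_le_exponent (hF : Fintype.card F = 2 ^ n) : 1 ≤ n := by
  have h := Fintype.one_lt_card (α := F)
  rcases Nat.eq_zero_or_pos n with h0 | h0
  · rw [hF, h0, pow_zero] at h; omega
  · exact h0

/-- `X² + X + 1` has no root when the degree over the prime field is odd. -/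
theorem no_root (hF : Fintype.card F = 2 ^ n) (hn : Odd n) (x : F) :
    x * x + x + 1 ≠ 0 := by
  intro h
  have h2 : (2 : F) = 0 := CharTwo.two_eq_zero
  have h1 : x ^ 2 = x + 1 := by linear_combination h - (x + 1) * h2
  have h4 : x ^ 4 = x := by linear_combination (x ^ 2 - x) * h
  obtain ⟨k, rfl⟩ := hn
  have hk : ∀ i : ℕ, x ^ 4 ^ i = x := by
    intro i
    induction i with
    | zero => simp
    | succ i ih => rw [pow_succ, pow_mul, ih, h4]
  have h3 := FiniteField.pow_card x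
  rw [hF, pow_succ, pow_mul x, show (2 : ℕ) ^ (2 * k) = 4 ^ k by rw [pow_mul]; rfl, hk, h1] at h3
  exact one_ne_zero (left_eq_add.mp h3.symm)

/-- Automorphisms are powers of the Frobenius map. -/
theorem exists_exponent (hF : Fintype.card F = 2 ^ n) (φ : F ≃+* F) :
    ∃ j, j < n ∧ ∀ x : F, φ x = x ^ 2 ^ j := by
  classical
  haveI : Fact (Nat.Prime 2) := ⟨Nat.prime_two⟩
  letI : Algebra (ZMod 2) F := ZMod.algebra F 2
  let α : F ≃ₐ[ZMod 2] F := AlgEquiv.ofRingEquiv (f := φ) fun c =>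
    DFunLike.congr_fun (RingHom.ext_zmod ((φ : F →+* F).comp (algebraMap (ZMod 2) F))
      (algebraMap (ZMod 2) F)) c
  obtain ⟨⟨i, hi⟩, he⟩ :=
    (FiniteField.bijective_frobeniusAlgEquivOfAlgebraic_pow (ZMod 2) F).2 α
  have hfin : Module.finrank (ZMod 2) F = n := by
    have h := Module.card_eq_pow_finrank (K := ZMod 2) (V := F)
    rw [ZMod.card, hF] at h
    exact (Nat.pow_right_injective le_rfl h).symm
  refine ⟨i, hfin ▸ hi, fun x => ?_⟩
  have h := DFunLike.congr_fun he x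
  rw [AlgEquiv.coe_pow, FiniteField.coe_frobeniusAlgEquivOfAlgebraic, pow_iterate, ZMod.card] at h
  exact h.symm

/-- The inverse of `x ↦ x ^ 2 ^ j` is `x ↦ x ^ 2 ^ (n - j)`. -/
theorem symm_exponent (hF : Fintype.card F = 2 ^ n) {φ : F ≃+* F} {j : ℕ} (hj : j < n)
    (hφ : ∀ x : F, φ x = x ^ 2 ^ j) (x : F) : φ.symm x = x ^ 2 ^ (n - j) := by
  apply φ.injective
  rw [φ.apply_symm_apply, map_pow, hφ, ← pow_mul, ← pow_add,
    show j + (n - j) = n by omega, ← hF, FiniteField.pow_card]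

open Polynomial in
/-- The key polynomial has a nonzero coefficient in degree three. -/
theorem key_ne {j : ℕ} (hF : Fintype.card F = 2 ^ n) (hj : 2 ≤ j) (hjn : 2 * j < n) (c : F) :
    ∃ x : F, x ^ (2 * 2 ^ j) + x ^ (1 + 2 ^ j) + x ^ (1 + 3 * 2 ^ j) + x ^ (2 + 2 ^ j) +
      x ^ (2 + 2 * 2 ^ j) + x ^ 3 + x ^ (3 + 2 * 2 ^ j) + x ^ (4 + 2 ^ j) +
      c * (x ^ (2 * 2 ^ j) + x ^ 2 + x ^ (2 + 3 * 2 ^ j) + x ^ (4 + 2 ^ j)) ≠ 0 := by
  classical
  by_contra h
  push Not at h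
  obtain ⟨f, hf⟩ : ∃ f, f = 2 ^ j := ⟨_, rfl⟩
  rw [← hf] at h
  have hf4 : 4 ≤ f := by
    rw [hf]
    calc 4 = 2 ^ 2 := rfl
      _ ≤ 2 ^ j := Nat.pow_le_pow_right two_pos hj
  have hcard : 3 * f + 2 < Fintype.card F := by
    have h1 : 2 ^ (2 * j + 1) ≤ 2 ^ n := Nat.pow_le_pow_right two_pos hjn
    rw [pow_succ, mul_comm 2 j, pow_mul, ← hf, ← hF] at h1
    nlinarith
  let P : F[X] := X ^ (2 * f) + X ^ (1 + f) + X ^ (1 + 3 * f) + X ^ (2 + f) + X ^ (2 + 2 * f) +
    X ^ 3 + X ^ (3 + 2 * f) + X ^ (4 + f) +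
    C c * (X ^ (2 * f) + X ^ 2 + X ^ (2 + 3 * f) + X ^ (4 + f))
  have hdeg : P.natDegree ≤ 3 * f + 2 := by
    refine natDegree_le_iff_coeff_eq_zero.mpr fun N hN => ?_
    have hN' : ∀ k, k ≤ 3 * f + 2 → ¬ N = k := fun k hk e => by omega
    simp only [P, coeff_add, coeff_C_mul, coeff_X_pow]
    rw [if_neg (hN' _ (by omega)), if_neg (hN' _ (by omega)), if_neg (hN' _ (by omega)),
      if_neg (hN' _ (by omega)), if_neg (hN' _ (by omega)), if_neg (hN' _ (by omega)),
      if_neg (hN' _ (by omega)), if_neg (hN' _ (by omega)), if_neg (hN' _ (by omega)),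
      if_neg (hN' _ (by omega))]
    ring
  have hP : P = 0 := by
    refine eq_zero_of_natDegree_lt_card_of_eval_eq_zero P (f := fun x : F => x)
      Function.injective_id (fun x => ?_) (lt_of_le_of_lt hdeg hcard)
    simp only [P, eval_add, eval_mul, eval_pow, eval_X, eval_C]
    exact h x
  have h3 : P.coeff 3 = 1 := by
    simp only [P, coeff_add, coeff_C_mul, coeff_X_pow]
    rw [if_neg (show ¬ 3 = 2 * f by omega), if_neg (show ¬ 3 = 1 + f by omega),
      if_neg (show ¬ 3 = 1 + 3 * f by omega), if_neg (show ¬ 3 = 2 + f by omega),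
      if_neg (show ¬ 3 = 2 + 2 * f by omega), if_pos trivial, if_neg (show ¬ 3 = 3 + 2 * f by omega),
      if_neg (show ¬ 3 = 4 + f by omega), if_neg (show ¬ 3 = 2 by omega),
      if_neg (show ¬ 3 = 2 + 3 * f by omega)]
    ring
  rw [hP, coeff_zero] at h3
  exact zero_ne_one h3

end CfsgLib.SuzukiUniq
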