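/-
The functional equation of a Suzuki datum: it determines the permutation, the twist and the constant.
-/
import Cfsg.Agent.Lib.SuzukiUniq.Field

set_option autoImplicit false
set_option linter.unusedSectionVars false

namespace CfsgLib.SuzukiUniq

variable {F : Type*} [Field F] [Fintype F] [CharP F 2]

theorem nums : (2 : F) = 0 ∧ (3 : F) = 1 ∧ (4 : F) = 0 ∧ (5 : F) = 1 ∧ (6 : F) = 0 ∧ (7 : F) = 1 ∧
    (8 : F) = 0 ∧ (9 : F) = 1 ∧ (10 : F) = 0 ∧ (11 : F) = 1 ∧ (12 : F) = 0 ∧ (13 : F) = 1 ∧
    (14 : F) = 0 ∧ (15 : F) = 1 ∧ (16 : F) = 0 := by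
  have h : (2 : F) = 0 := CharTwo.two_eq_zero
  refine ⟨h, ?_, ?_, ?_, ?_, ?_, ?_, ?_, ?_, ?_, ?_, ?_, ?_, ?_, ?_⟩
  · linear_combination h
  · linear_combination 2 * h
  · linear_combination 2 * h
  · linear_combination 3 * h
  · linear_combination 3 * h
  · linear_combination 4 * h
  · linear_combination 4 * h
  · linear_combination 5 * h
  · linear_combination 5 * h
  · linear_combination 6 * h
  · linear_combination 6 * h
  · linear_combination 7 * h
  · linear_combination 7 * h
  · linear_combination 8 * h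

/-- The product of the two-group of type A in coordinates. -/
def op (φ : F ≃+* F) (u v : F × F) : F × F := (u.1 + v.1, u.2 + v.2 + φ u.1 * v.1)

/-- The inverse in coordinates. -/
def iv (φ : F ≃+* F) (u : F × F) : F × F := (u.1, u.2 + φ u.1 * u.1)

/-- The norm-like map `x ↦ x φ(x)`. -/
def nm (φ : F ≃+* F) (x : F) : F := x * φ x

/-- The torus in coordinates. -/
def sc (φ : F ≃+* F) (l : F) (u : F × F) : F × F := (l * u.1, nm φ l * u.2)

variable {φ : F ≃+* F}

theorem nm_mul (a b : F) : nm φ (a * b) = nm φ a * nm φ b := by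
  simp only [nm, map_mul]; ring

theorem nm_inv (a : F) : nm φ a⁻¹ = (nm φ a)⁻¹ := by
  simp only [nm, map_inv₀, mul_inv]

@[simp] theorem nm_one : nm φ (1 : F) = 1 := by simp [nm]

@[simp] theorem nm_zero : nm φ (0 : F) = 0 := by simp [nm]

theorem nm_ne {a : F} (ha : a ≠ 0) : nm φ a ≠ 0 :=
  mul_ne_zero ha fun h => ha (φ.injective (h.trans (map_zero φ).symm))

theorem op_assoc (u v w : F × F) : op φ (op φ u v) w = op φ u (op φ v w) := by
  simp only [op, map_add, Prod.mk.injEq]
  constructor <;> ring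

theorem op_iv (u : F × F) : op φ u (iv φ u) = (0, 0) := by
  simp only [op, iv, Prod.mk.injEq]
  refine ⟨CharTwo.add_self_eq_zero _, ?_⟩
  linear_combination (u.2 + φ u.1 * u.1) * (CharTwo.two_eq_zero (R := F))

theorem iv_op (u : F × F) : op φ (iv φ u) u = (0, 0) := by
  simp only [op, iv, Prod.mk.injEq]
  refine ⟨CharTwo.add_self_eq_zero _, ?_⟩
  linear_combination (u.2 + φ u.1 * u.1) * (CharTwo.two_eq_zero (R := F))

theorem op_zero (u : F × F) : op φ u (0, 0) = u := by simp [op]

theorem zero_op (u : F × F) : op φ (0, 0) u = u := by simp [op]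

theorem sc_op (l : F) (u v : F × F) : sc φ l (op φ u v) = op φ (sc φ l u) (sc φ l v) := by
  simp only [sc, op, nm, map_mul, Prod.mk.injEq]
  constructor <;> ring

theorem sc_sc (l m : F) (u : F × F) : sc φ l (sc φ m u) = sc φ (l * m) u := by
  simp only [sc, nm_mul, Prod.mk.injEq]
  constructor <;> ring

theorem sc_one (u : F × F) : sc φ 1 u = u := by simp [sc]

theorem sc_inv_cancel {l : F} (hl : l ≠ 0) (u : F × F) : sc φ l⁻¹ (sc φ l u) = u := by
  rw [sc_sc, inv_mul_cancel₀ hl, sc_one]

/-- Every element with nonzero first coordinate is a scaled element with first coordinate one. -/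
theorem eq_sc (u : F × F) (hu : u.1 ≠ 0) : u = sc φ u.1 (1, u.2 / nm φ u.1) := by
  refine Prod.ext ?_ ?_
  · simp [sc]
  · simp only [sc]; field_simp [nm_ne (φ := φ) hu]

/-- Left translation on the points `∞ = none` and `u = some u`. -/
def Lt (φ : F ≃+* F) (u : F × F) (x : Option (F × F)) : Option (F × F) := x.map (op φ u)

/-- The torus on the points. -/
def St (φ : F ≃+* F) (l : F) (x : Option (F × F)) : Option (F × F) := x.map (sc φ l)

/-- The properties of an involution `W` exchanging the two base points of a Suzuki datum. -/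
structure Datum (φ : F ≃+* F) (c : F) (W : Option (F × F) → Option (F × F)) : Prop where
  w_none : W none = some (0, 0)
  w_inv : ∀ x, W (W x) = x
  w_sc : ∀ l : F, l ≠ 0 → ∀ x, W (St φ l x) = St φ l⁻¹ (W x)
  hs : ∀ x, W (Lt φ (0, 1) (W x)) = Lt φ (1, c + 1) (W (Lt φ (1, c) x))

variable {c : F} {W : Option (F × F) → Option (F × F)}

theorem Datum.w_zero (D : Datum φ c W) : W (some (0, 0)) = none := by
  rw [← D.w_none, D.w_inv]

theorem Datum.w_s (D : Datum φ c W) : W (some (0, 1)) = some (1, c + 1) := by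
  have h := D.hs (W (some (0, 0)))
  rw [D.w_inv, D.w_zero] at h
  simpa [Lt, D.w_none, op] using h

theorem Datum.w_r' (D : Datum φ c W) : W (some (1, c + 1)) = some (0, 1) := by
  rw [← D.w_s, D.w_inv]

theorem Datum.w_central (D : Datum φ c W) {l : F} (hl : l ≠ 0) :
    W (some (0, nm φ l)) = some (l⁻¹, (c + 1) / nm φ l) := by
  have h := D.w_sc l hl (some (0, 1))
  rw [D.w_s] at h
  simp only [St, Option.map_some, sc, mul_zero, mul_one] at h
  rw [h, nm_inv, div_eq_inv_mul]

theorem Datum.w_r (D : Datum φ c W) : W (some (1, c)) = some (1, c) := by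
  have h := D.hs (some (0, 0))
  rw [D.w_zero] at h
  simp only [Lt, Option.map_none, D.w_none, Option.map_some, op_zero] at h
  cases hW : W (some (1, c)) with
  | none =>
    rw [hW] at h
    exact absurd h (by simp)
  | some v =>
    rw [hW, Option.map_some, Option.some.injEq] at h
    refine congrArg some ?_
    have h2 : op φ (iv φ (1, c + 1)) (op φ (1, c + 1) v) = op φ (iv φ (1, c + 1)) (0, 0) := by
      rw [← h]
    rw [← op_assoc, iv_op, zero_op, op_zero] at h2
    rw [h2]
    simp [iv, add_assoc, CharTwo.add_self_eq_zero]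

/-- The relation for `r` follows from the relation for `s`. -/
theorem Datum.hr (D : Datum φ c W) (x : Option (F × F)) :
    W (Lt φ (1, c) (W x)) = Lt φ (1, c) (W (Lt φ (0, 1) x)) := by
  have h := D.hs (W x)
  rw [D.w_inv] at h
  rw [h]
  cases hy : W (Lt φ (1, c) (W x)) with
  | none => rfl
  | some v =>
    simp only [Lt, Option.map_some, ← op_assoc]
    rw [show op φ (1, c) (1, c + 1) = (0, 0) by
      rw [show ((1 : F), c + 1) = iv φ (1, c) by simp [iv]]; exact op_iv _]
    rw [zero_op]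

/-- The coordinates of the image of `(1, T)`. -/
noncomputable def imA (W : Option (F × F) → Option (F × F)) (T : F) : F :=
  ((W (some (1, T))).getD (0, 0)).1

/-- The coordinates of the image of `(1, T)`. -/
noncomputable def imB (W : Option (F × F) → Option (F × F)) (T : F) : F :=
  ((W (some (1, T))).getD (0, 0)).2

theorem Datum.w_line (D : Datum φ c W) (T : F) :
    W (some (1, T)) = some (imA W T, imB W T) := by
  cases hW : W (some (1, T)) with
  | none =>
    have h := congrArg W hW
    rw [D.w_inv, D.w_none] at h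
    simp at h
  | some v => simp [imA, imB, hW]

theorem Datum.w_scaled (D : Datum φ c W) {l : F} (hl : l ≠ 0) (T : F) :
    W (some (sc φ l (1, T))) = some (sc φ l⁻¹ (imA W T, imB W T)) := by
  have h := D.w_sc l hl (some (1, T))
  rw [D.w_line] at h
  exact h

theorem Datum.recursion₀ (D : Datum φ c W) :
    imA W c = 1 ∧ imB W c = c ∧ imA W (c + 1) = 0 ∧ imB W (c + 1) = 1 := by
  simp [imA, imB, D.w_r, D.w_r']

/-- The recursion on the line `x = 1`. -/
theorem Datum.recursion (D : Datum φ c W) {y l : F} (hy : nm φ l = y) :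
    l * imA W (c + 1 + y) = 1 + imA W (c + y) ∧
      y * imB W (c + 1 + y) = c + 1 + imB W (c + y) + imA W (c + y) := by
  subst hy
  by_cases hl : l = 0
  · subst hl
    obtain ⟨h1, h2, -, -⟩ := D.recursion₀
    simp only [nm_zero, add_zero]
    rw [h1, h2]
    constructor
    · linear_combination -(CharTwo.two_eq_zero (R := F))
    · linear_combination -(c + 1) * (CharTwo.two_eq_zero (R := F))
  have h := D.hs (some (0, nm φ l))
  rw [D.w_central hl] at h
  have e1 : op φ (0, 1) (l⁻¹, (c + 1) / nm φ l) = sc φ l⁻¹ (1, c + 1 + nm φ l) := by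
    simp only [op, sc, map_zero, zero_mul, add_zero, zero_add, mul_one, nm_inv, Prod.mk.injEq,
      true_and]
    field_simp [nm_ne (φ := φ) hl]
    ring
  have e2 : op φ (1, c) (0, nm φ l) = (1, c + nm φ l) := by simp [op]
  simp only [Lt, Option.map_some, e1, e2, D.w_scaled (inv_ne_zero hl), inv_inv, D.w_line] at h
  simp only [Option.some.injEq, sc, op, map_one, one_mul, Prod.mk.injEq] at h
  exact h

/-- The image of the line is rational in `μ` and `lam`. -/
theorem Datum.closed_form (D : Datum φ c W) {u lam μ : F} (hμ : nm φ μ = u) (hlam : nm φ lam = u + 1) :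
    imA W (c + u) * (1 + lam * μ) = 1 + μ ∧
      imB W (c + u) * (1 + u * (u + 1)) =
        c + 1 + imA W (c + u) + u * (c + 1 + imA W (c + 1 + u)) := by
  obtain ⟨h1, h2⟩ := D.recursion hμ
  obtain ⟨h3, h4⟩ := D.recursion hlam
  have e1 : c + 1 + (u + 1) = c + u := by linear_combination (CharTwo.two_eq_zero (R := F))
  rw [e1, show c + (u + 1) = c + 1 + u by ring] at h3 h4
  constructor
  · linear_combination (norm := (ring_nf; simp [nums, CharTwo.neg_eq])) h1 + μ * h3
  · linear_combination (norm := (ring_nf; simp [nums, CharTwo.neg_eq])) h2 + u * h4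

/-- Two data with the same twist and constant have the same permutation. -/
theorem Datum.unique (hbij : Function.Bijective (nm φ)) (hroot : ∀ x : F, x * x + x + 1 ≠ 0)
    (D : Datum φ c W) {W' : Option (F × F) → Option (F × F)} (D' : Datum φ c W') : W = W' := by
  have hA : ∀ T, imA W T = imA W' T := by
    intro T
    obtain ⟨μ, hμ⟩ := hbij.2 (T + c)
    obtain ⟨lam, hlam⟩ := hbij.2 (T + c + 1)
    have e : c + (T + c) = T := by linear_combination c * (CharTwo.two_eq_zero (R := F))
    have h1 := (D.closed_form hμ hlam).1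
    have h2 := (D'.closed_form hμ hlam).1
    rw [e] at h1 h2
    have hne : 1 + lam * μ ≠ 0 := by
      intro h
      apply hroot (T + c)
      have h' := congrArg (nm φ) (CharTwo.add_eq_zero.mp h)
      rw [nm_one, nm_mul, hμ, hlam] at h'
      linear_combination (norm := (ring_nf; simp [nums, CharTwo.neg_eq])) h'
    exact mul_right_cancel₀ hne (h1.trans h2.symm)
  have hB : ∀ T, imB W T = imB W' T := by
    intro T
    obtain ⟨μ, hμ⟩ := hbij.2 (T + c)
    obtain ⟨lam, hlam⟩ := hbij.2 (T + c + 1)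
    have e : c + (T + c) = T := by linear_combination c * (CharTwo.two_eq_zero (R := F))
    have h1 := (D.closed_form hμ hlam).2
    have h2 := (D'.closed_form hμ hlam).2
    rw [e] at h1 h2
    rw [hA, hA] at h1
    refine mul_right_cancel₀ ?_ (h1.trans h2.symm)
    intro h
    apply hroot (T + c)
    linear_combination h
  funext x
  rcases x with _ | ⟨x, y⟩
  · rw [D.w_none, D'.w_none]
  by_cases hx : x = 0
  · subst hx
    by_cases hy : y = 0
    · subst hy; rw [D.w_zero, D'.w_zero]
    obtain ⟨l, rfl⟩ := hbij.2 y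
    have hl : l ≠ 0 := by rintro rfl; exact hy nm_zero
    rw [D.w_central hl, D'.w_central hl]
  · rw [eq_sc (φ := φ) (x, y) hx, D.w_scaled hx, D'.w_scaled hx, hA, hB]

/-- The linear system for `φ μ` in terms of `lam` and `p = φ lam`. -/
theorem Datum.linear_pair (D : Datum φ c W) (hbij : Function.Bijective (nm φ)) {lam μ : F}
    (h0 : lam ≠ 0) (h1 : lam ≠ 1) (hμ : nm φ μ = 1 + nm φ lam) :
    let p := φ lam
    let L := lam * φ lam
    let M := 1 + lam * φ lam
    let E := (1 + lam) * (1 + p)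
    ((E * lam * L + (1 + lam) * lam * L + ((1 + c) * lam + c * p + L)) * φ μ +
        (E * L * (c + L) + (1 + lam) * M * L + (1 + c) * M * L +
          ((1 + c) * lam + c * p + L) * (1 + c * L)) = 0) ∧
      ((E + (1 + lam) * p + (1 + c * lam + (1 + c) * p) * L * lam) * φ μ +
        (E * (1 + c * L) + (1 + lam) * p * M + (1 + c) * M * L +
          (1 + c * lam + (1 + c) * p) * L * (c + L)) = 0) := by
  have h2 : (2 : F) = 0 := CharTwo.two_eq_zero
  have hL0 : nm φ lam ≠ 0 := nm_ne h0
  have hM0 : 1 + nm φ lam ≠ 0 := fun h => h1 (hbij.1 (by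
    rw [nm_one]; linear_combination h - h2))
  have hμ0 : μ ≠ 0 := fun h => hM0 (by rw [← hμ, h, nm_zero])
  have ha : 1 + lam⁻¹ ≠ 0 := fun h => h1 (inv_eq_one.mp (by linear_combination h - h2))
  obtain ⟨P2, hP2⟩ : ∃ P2, P2 = c + (c + 1) / nm φ lam + lam⁻¹ := ⟨_, rfl⟩
  obtain ⟨T, hT⟩ : ∃ T, T = P2 / nm φ (1 + lam⁻¹) := ⟨_, rfl⟩
  have hnm1 : nm φ (1 + lam⁻¹) = 1 + lam⁻¹ + (φ lam)⁻¹ + (nm φ lam)⁻¹ := by
    simp only [nm, map_add, map_one, map_inv₀, mul_inv]; ring
  -- the point `r * W (0, nm lam)`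
  have hP : op φ (1, c) (lam⁻¹, (c + 1) / nm φ lam) = sc φ (1 + lam⁻¹) (1, T) := by
    simp only [op, sc, map_one, one_mul, mul_one, hT, hP2, mul_div_cancel₀ _ (nm_ne ha)]
  have hWP : W (some (sc φ (1 + lam⁻¹) (1, T))) =
      some (op φ (1, c) (μ⁻¹, (c + 1) / (1 + nm φ lam))) := by
    have h := D.hr (some (0, nm φ lam))
    rw [D.w_central h0] at h
    simp only [Lt, Option.map_some, hP] at h
    rw [h, show op φ (0, 1) (0, nm φ lam) = (0, nm φ μ) by simp [op, hμ], D.w_central hμ0, hμ]
    rfl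
  -- its inverse
  have hP' : op φ (sc φ lam⁻¹ (1, c)) (1, c + 1) = sc φ (1 + lam⁻¹) (1, T + 1) := by
    refine Prod.ext (by simp [op, sc, add_comm]) ?_
    simp only [op, sc, mul_one]
    rw [hT, mul_add, mul_div_cancel₀ _ (nm_ne ha), mul_one, hnm1, hP2, nm_inv, map_inv₀]
    ring_nf
    simp [nums, CharTwo.neg_eq]
  have hWP' : W (some (sc φ (1 + lam⁻¹) (1, T + 1))) =
      some (sc φ lam (op φ (1, c) ((μ / lam)⁻¹, (c + 1) / nm φ (μ / lam)))) := by
    rw [← hP']
    have e : some (op φ (sc φ lam⁻¹ (1, c)) (1, c + 1)) =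
        St φ lam⁻¹ (Lt φ (1, c) (St φ lam (W (some (0, 1))))) := by
      rw [D.w_s]
      simp only [St, Lt, Option.map_some, sc_op, sc_inv_cancel h0]
    rw [e, D.w_sc _ (inv_ne_zero h0), inv_inv]
    have e2 : St φ lam (W (some (0, 1))) = W (St φ lam⁻¹ (some (0, 1))) := by
      rw [D.w_sc _ (inv_ne_zero h0), inv_inv]
    rw [e2, D.hr]
    simp only [St, Lt, Option.map_some]
    have e3 : op φ (0, 1) (sc φ lam⁻¹ (0, 1)) = (0, nm φ (μ / lam)) := by
      simp only [op, sc, map_zero, mul_zero, add_zero, mul_one, div_eq_mul_inv, nm_mul, hμ,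
        nm_inv, Prod.mk.injEq, true_and]
      field_simp
      ring
    rw [e3, D.w_central (div_ne_zero hμ0 h0)]
    rfl
  rw [D.w_scaled ha, Option.some.injEq] at hWP hWP'
  have hWP1 := congrArg (sc φ (1 + lam⁻¹)) hWP
  have hWP1' := congrArg (sc φ (1 + lam⁻¹)) hWP'
  rw [sc_sc, mul_inv_cancel₀ ha, sc_one] at hWP1 hWP1'
  simp only [op, sc, map_one, one_mul, Prod.mk.injEq] at hWP1 hWP1'
  obtain ⟨hA, hB⟩ := hWP1
  obtain ⟨hA', hB'⟩ := hWP1'
  -- the recursion at `u` and `u + 1`
  obtain ⟨l, hl⟩ := hbij.2 (T + c)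
  obtain ⟨l', hl'⟩ := hbij.2 (T + c + 1)
  have hR := (D.recursion hl).2
  have hR' := (D.recursion hl').2
  rw [show c + 1 + (T + c) = T + 1 by linear_combination c * h2,
    show c + (T + c) = T by linear_combination c * h2] at hR
  rw [show c + 1 + (T + c + 1) = T by linear_combination (c + 1) * h2,
    show c + (T + c + 1) = T + 1 by linear_combination c * h2] at hR'
  have hp0 : φ lam ≠ 0 := fun h => h0 (φ.injective (h.trans (map_zero φ).symm))
  have hr0 : φ μ ≠ 0 := fun h => hμ0 (φ.injective (h.trans (map_zero φ).symm))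
  have hμr : μ * φ μ = 1 + lam * φ lam := hμ
  have hM0' : 1 + lam * φ lam ≠ 0 := hM0
  have hnd : nm φ (μ / lam) = μ * φ μ / (lam * φ lam) := by
    rw [div_eq_mul_inv, nm_mul, nm_inv, div_eq_mul_inv]; rfl
  have hM : (1 : F) + nm φ lam = μ * φ μ := hμr.symm
  have eA : imA W T * (lam * φ lam * (μ * φ μ)) = (1 + lam) * (1 + μ) * φ lam * φ μ := by
    rw [hA]; field_simp; ring
  have eA' : imA W (T + 1) * (μ * φ μ) = (1 + lam) * (lam + μ) * φ μ := by
    rw [hA']; field_simp; ring
  have eB : imB W T * (lam * φ lam * (μ * φ μ)) =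
      (1 + lam) * (1 + φ lam) * (c * (μ * φ μ) + (c + 1) + φ μ) := by
    rw [hB, hnm1, hM, nm]; field_simp; ring
  have eB' : imB W (T + 1) * (μ * φ μ) =
      (1 + lam) * (1 + φ lam) * (c * (μ * φ μ) + (c + 1) * (lam * φ lam) + lam * φ μ) := by
    rw [hB', hnd, hnm1, nm, inv_div]; field_simp; ring
  have eu : (T + c) * ((1 + lam) * (1 + φ lam)) = 1 + c * lam + (1 + c) * φ lam := by
    have hE : (1 + lam) * (1 + φ lam) = nm φ (1 + lam⁻¹) * (lam * φ lam) := by
      rw [hnm1, nm]; field_simp; ring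
    rw [hE, add_mul, ← mul_assoc T, hT, div_mul_cancel₀ _ (nm_ne ha), hP2, hnm1, nm]
    field_simp
    ring_nf
    simp [nums, CharTwo.neg_eq]
  constructor
  · linear_combination (norm := (ring_nf; simp [nums, CharTwo.neg_eq]))
      (lam * φ lam * (μ * φ μ)) * hR' + (T + c + 1) * eB + (1 + c * (lam * φ lam) + φ μ) * eu +
      lam * φ lam * eB' + lam * φ lam * eA' +
      ((T + c + 1) * ((1 + lam) * (1 + φ lam)) * c + (1 + lam) * (1 + φ lam) * (lam * φ lam) * c +
        (1 + lam) * (lam * φ lam) + (1 + c) * (lam * φ lam)) * hμr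
  · linear_combination (norm := (ring_nf; simp [nums, CharTwo.neg_eq]))
      (lam * φ lam * (μ * φ μ)) * hR + eB + eA + (T + c) * (lam * φ lam) * eB' +
      lam * φ lam * (c + lam * φ lam + lam * φ μ) * eu +
      ((1 + lam) * φ lam + (1 + lam) * (1 + φ lam) * c + (1 + c) * (lam * φ lam) +
        (T + c) * (lam * φ lam) * ((1 + lam) * (1 + φ lam)) * c) * hμr

end CfsgLib.SuzukiUniq
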