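/-
A Suzuki datum can be normalised: the constant vanishes and the twist is determined.
-/
import Cfsg.Agent.Lib.SuzukiUniq.Datum

set_option autoImplicit false
set_option linter.unusedSectionVars false

namespace CfsgLib.SuzukiUniq

variable {F : Type*} [Field F] [Fintype F] [CharP F 2] {φ : F ≃+* F} {c : F}
  {W : Option (F × F) → Option (F × F)} {n : ℕ}

theorem num_eq (k : ℕ) [k.AtLeastTwo] : (OfNat.ofNat k : F) = if k % 2 = 0 then 0 else 1 := by
  rw [show (OfNat.ofNat k : F) = ((k : ℕ) : F) from (Nat.cast_ofNat).symm]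
  conv_lhs => rw [← Nat.div_add_mod k 2]
  rcases Nat.mod_two_eq_zero_or_one k with h | h <;> simp [h, CharTwo.two_eq_zero]

theorem nm_bijective (hinj : Function.Injective (nm φ)) : Function.Bijective (nm φ) :=
  Finite.injective_iff_bijective.mp hinj

theorem exists_ne_zero_one (hF : Fintype.card F = 2 ^ n) (hn : 3 ≤ n) : ∃ x : F, x ≠ 0 ∧ x ≠ 1 := by
  classical
  by_contra h
  push Not at h
  have hle : Fintype.card F ≤ 2 :=
    (Finset.card_le_card (show (Finset.univ : Finset F) ⊆ {0, 1} from fun x _ => by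
      by_cases hx : x = 0
      · simp [hx]
      · simp [h x hx])).trans Finset.card_le_two
  have h8 : 2 ^ 3 ≤ 2 ^ n := Nat.pow_le_pow_right two_pos hn
  rw [← hF] at h8
  omega

/-- The eliminant. -/
def eliminant (c lam p : F) : F :=
  p ^ 2 + lam * p + lam * p ^ 3 + lam ^ 2 * p + lam ^ 2 * p ^ 2 + lam ^ 3 + lam ^ 3 * p ^ 2 +
    lam ^ 4 * p + c * (p ^ 2 + lam ^ 2 + lam ^ 2 * p ^ 3 + lam ^ 4 * p)

theorem Datum.eliminant_eq_zero (D : Datum φ c W) (hinj : Function.Injective (nm φ)) (lam : F) :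
    c * (1 + c) * eliminant c lam (φ lam) = 0 := by
  by_cases h0 : lam = 0
  · simp [eliminant, h0]
  by_cases h1 : lam = 1
  · subst h1
    simp only [eliminant, map_one]
    ring_nf
    simp [nums]
  obtain ⟨μ, hμ⟩ := (nm_bijective hinj).2 (1 + nm φ lam)
  obtain ⟨e1, e2⟩ := D.linear_pair (nm_bijective hinj) h0 h1 hμ
  have hp : φ lam ≠ 0 := fun h => h0 (φ.injective (h.trans (map_zero φ).symm))
  have h : c * (1 + c) * eliminant c lam (φ lam) * (lam * φ lam) = 0 := by
    simp only [eliminant]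
    linear_combination (norm := (ring_nf; simp [num_eq]))
      ((1 + lam) * (1 + φ lam) + (1 + lam) * φ lam +
        (1 + c * lam + (1 + c) * φ lam) * (lam * φ lam) * lam) * e1 +
      ((1 + lam) * (1 + φ lam) * lam * (lam * φ lam) + (1 + lam) * lam * (lam * φ lam) +
        ((1 + c) * lam + c * φ lam + lam * φ lam)) * e2
  exact (mul_eq_zero.mp h).resolve_right (mul_ne_zero h0 hp)

/-- The constant is zero or one when the twist is small. -/
theorem Datum.const_small (D : Datum φ c W) (hF : Fintype.card F = 2 ^ n) (hn : 3 ≤ n)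
    (hinj : Function.Injective (nm φ)) {j : ℕ} (hj : 1 ≤ j) (hjn : 2 * j < n)
    (hφ : ∀ x : F, φ x = x ^ 2 ^ j) : c = 0 ∨ c = 1 := by
  by_contra hc
  push Not at hc
  have hcc : c * (1 + c) ≠ 0 := mul_ne_zero hc.1 fun h => hc.2 (CharTwo.add_eq_zero.mp h).symm
  have hQ : ∀ x : F, eliminant c x (φ x) = 0 := fun x =>
    (mul_eq_zero.mp (D.eliminant_eq_zero hinj x)).resolve_left hcc
  rcases eq_or_lt_of_le hj with rfl | hj2
  · obtain ⟨x, hx0, hx1⟩ := exists_ne_zero_one hF hn
    have h := hQ x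
    rw [eliminant, hφ, pow_one] at h
    have h2 : c * (x ^ 2 * (x + 1) ^ 2 * (x + 1) ^ 4) = 0 := by
      linear_combination (norm := (ring_nf; simp [nums, CharTwo.neg_eq,
        show (20 : F) = 0 by linear_combination 10 * (nums (F := F)).1])) h
    have hx : x + 1 ≠ 0 := fun e => hx1 (CharTwo.add_eq_zero.mp e)
    exact hc.1 ((mul_eq_zero.mp h2).resolve_right
      (mul_ne_zero (mul_ne_zero (pow_ne_zero _ hx0) (pow_ne_zero _ hx)) (pow_ne_zero _ hx)))
  · obtain ⟨x, hx⟩ := key_ne hF hj2 hjn c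
    apply hx
    have h := hQ x
    rw [eliminant, hφ] at h
    obtain ⟨f, hf⟩ : ∃ f, f = 2 ^ j := ⟨_, rfl⟩
    rw [← hf] at h ⊢
    simp only [pow_add, pow_one, mul_comm 2 f, mul_comm 3 f, pow_mul]
    linear_combination h

/-- With vanishing constant the twist satisfies `φ (φ x) ^ 2 = x`. -/
theorem Datum.twist (D : Datum φ 0 W) (hF : Fintype.card F = 2 ^ n) (hn : Odd n)
    (hinj : Function.Injective (nm φ)) (lam : F) : φ (φ lam) ^ 2 = lam := by
  by_cases h0 : lam = 0
  · simp [h0]
  by_cases h1 : lam = 1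
  · simp [h1]
  have hbij := nm_bijective hinj
  obtain ⟨μ, hμ⟩ := hbij.2 (1 + nm φ lam)
  obtain ⟨e1, e2⟩ := D.linear_pair hbij h0 h1 hμ
  have hp0 : φ lam ≠ 0 := fun h => h0 (φ.injective (h.trans (map_zero φ).symm))
  obtain ⟨Z, hZ⟩ : ∃ Z, Z = φ μ * (1 + lam * φ lam) + (1 + lam * φ lam ^ 2) := ⟨_, rfl⟩
  have hZ0 : Z = 0 := by
    by_contra hne
    have f1 : (lam * (1 + φ lam + lam * φ lam)) * Z = 0 := by
      rw [hZ]
      linear_combination (norm := (ring_nf; simp [nums, CharTwo.neg_eq])) e1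
    have f2 : (1 + lam + lam * φ lam) * Z = 0 := by
      rw [hZ]
      linear_combination (norm := (ring_nf; simp [nums, CharTwo.neg_eq])) e2
    have g1 := (mul_eq_zero.mp ((mul_eq_zero.mp f1).resolve_right hne)).resolve_left h0
    have g2 := (mul_eq_zero.mp f2).resolve_right hne
    have hpl : φ lam = lam := by linear_combination g1 - g2
    rw [hpl] at g2
    exact no_root hF hn lam (by linear_combination g2)
  have hM : μ * φ μ = 1 + lam * φ lam := hμ
  have hM' : φ μ * φ (φ μ) = 1 + φ lam * φ (φ lam) := by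
    have h := congrArg φ hM
    simpa [map_mul, map_add] using h
  have hZ1 : φ (φ μ) * (1 + φ lam * φ (φ lam)) + (1 + φ lam * φ (φ lam) ^ 2) = 0 := by
    have h := congrArg φ (hZ.symm.trans hZ0)
    simpa [map_mul, map_add, map_pow] using h
  have hprod : φ lam * (1 + φ lam) * (φ (φ lam) ^ 2 + lam) = 0 := by
    rw [hZ] at hZ0
    linear_combination (norm := (ring_nf; simp [nums, CharTwo.neg_eq]))
      (φ (φ μ) * (1 + φ lam * φ (φ lam))) * hZ0 + (1 + lam * φ lam ^ 2) * hZ1 +
      (1 + φ lam * φ (φ lam)) * (1 + lam * φ lam) * hM'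
  have hp1 : 1 + φ lam ≠ 0 := fun h => h1 (φ.injective (by
    rw [map_one]; exact (CharTwo.add_eq_zero.mp h).symm))
  exact CharTwo.add_eq_zero.mp ((mul_eq_zero.mp hprod).resolve_left (mul_ne_zero hp0 hp1))

/-- The change of coordinates exchanging `φ` and its inverse. -/
def flip (φ : F ≃+* F) : F × F ≃ F × F where
  toFun u := (φ u.1, u.2 + φ u.1 * u.1)
  invFun v := (φ.symm v.1, v.2 + v.1 * φ.symm v.1)
  left_inv u := Prod.ext (φ.symm_apply_apply _) (by
    simp only [φ.symm_apply_apply]
    linear_combination (φ u.1 * u.1) * (CharTwo.two_eq_zero (R := F)))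
  right_inv v := Prod.ext (φ.apply_symm_apply _) (by
    simp only [φ.apply_symm_apply]
    linear_combination (v.1 * φ.symm v.1) * (CharTwo.two_eq_zero (R := F)))

theorem flip_op (u v : F × F) : flip φ (op φ u v) = op φ.symm (flip φ u) (flip φ v) := by
  simp only [flip, Equiv.coe_fn_mk, op, φ.symm_apply_apply, map_add, Prod.mk.injEq, true_and]
  linear_combination (φ u.1 * v.1) * (CharTwo.two_eq_zero (R := F))

theorem flip_sc (l : F) (u : F × F) : flip φ (sc φ l u) = sc φ.symm (φ l) (flip φ u) := by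
  simp only [flip, Equiv.coe_fn_mk, sc, nm, φ.symm_apply_apply, map_mul, Prod.mk.injEq, true_and]
  ring

theorem flip_Lt (u : F × F) (x : Option (F × F)) :
    Option.map (flip φ) (Lt φ u x) = Lt φ.symm (flip φ u) (Option.map (flip φ) x) := by
  cases x with
  | none => rfl
  | some v => simp [Lt, flip_op]

theorem flip_St (l : F) (x : Option (F × F)) :
    Option.map (flip φ) (St φ l x) = St φ.symm (φ l) (Option.map (flip φ) x) := by
  cases x with
  | none => rfl
  | some v => simp [St, flip_sc]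

/-- The transformed datum. -/
theorem Datum.flipped (D : Datum φ c W) :
    Datum φ.symm (c + 1) ((flip φ).optionCongr ∘ W ∘ (flip φ).optionCongr.symm) := by
  have hsymm : ∀ x, Option.map (flip φ) (Option.map (flip φ).symm x) = x := fun x => by
    cases x <;> simp
  have hsymm' : ∀ x, Option.map (flip φ).symm (Option.map (flip φ) x) = x := fun x => by
    cases x <;> simp
  have hconj : ∀ u x, Option.map (flip φ).symm (Lt φ.symm (flip φ u) x) =
      Lt φ u (Option.map (flip φ).symm x) := fun u x => by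
    conv_lhs => rw [← hsymm x, ← flip_Lt, hsymm']
  have hW : ∀ x, ((flip φ).optionCongr ∘ W ∘ (flip φ).optionCongr.symm) x =
      Option.map (flip φ) (W (Option.map (flip φ).symm x)) := fun x => rfl
  have e0 : flip φ (0, 1) = (0, 1) := by simp [flip]
  have e1 : flip φ (1, c) = (1, c + 1) := by simp [flip]
  have e2 : flip φ (1, c + 1) = (1, c + 1 + 1) := by simp [flip]
  refine ⟨?_, ?_, ?_, ?_⟩
  · rw [hW, Option.map_none, D.w_none]; simp [flip]
  · intro x
    simp only [hW, hsymm', D.w_inv, hsymm]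
  · intro l hl x
    simp only [hW]
    have h : Option.map (flip φ).symm (St φ.symm l x) =
        St φ (φ.symm l) (Option.map (flip φ).symm x) := by
      conv_lhs => rw [← hsymm x, ← φ.apply_symm_apply l, ← flip_St, hsymm']
    rw [h, D.w_sc _ (fun e => hl (φ.symm.injective (e.trans (map_zero _).symm))), flip_St,
      ← map_inv₀ φ.symm, φ.apply_symm_apply]
  · intro x
    simp only [hW]
    rw [← e0, hconj, hsymm', D.hs, flip_Lt, e2, ← e1, hconj]

/-- The constant is zero or one. -/
theorem Datum.const (D : Datum φ c W) (hF : Fintype.card F = 2 ^ n) (hn : Odd n) (hn3 : 3 ≤ n)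
    (hne : φ ≠ RingEquiv.refl F) (hinj : Function.Injective (nm φ)) : c = 0 ∨ c = 1 := by
  obtain ⟨j, hj, hφ⟩ := exists_exponent hF φ
  have hj0 : 1 ≤ j := by
    rcases Nat.eq_zero_or_pos j with h | h
    · exact absurd (RingEquiv.ext fun x => by rw [hφ, h, pow_zero, pow_one]; rfl) hne
    · exact h
  rcases Nat.lt_or_ge (2 * j) n with h | h
  · exact D.const_small hF hn3 hinj hj0 h hφ
  · have hinj' : Function.Injective (nm φ.symm) := fun a b e => by
      have : nm φ (φ.symm a) = nm φ (φ.symm b) := by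
        simpa [nm, mul_comm] using e
      exact φ.symm.injective (hinj this)
    have hnj : 2 * (n - j) < n := by
      obtain ⟨k, rfl⟩ := hn
      omega
    rcases D.flipped.const_small hF hn3 hinj' (by omega) hnj (symm_exponent hF hj hφ) with e | e
    · exact Or.inr (CharTwo.add_eq_zero.mp e)
    · exact Or.inl (add_eq_right.mp e)

end CfsgLib.SuzukiUniq
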