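/-
From a simple Zassenhaus group with a non-abelian 2-kernel to a Suzuki datum.
-/
import Cfsg.Agent.Lib.SuzukiUniq.Coords
import Cfsg.Agent.Lib.SuzukiUniq.Twist
import Cfsg.Agent.Lib.ZassenhausSimple.Suzuki.Square
import Cfsg.Agent.Lib.ZassenhausSimple.Suzuki.Cube
import Cfsg.Agent.S0345

set_option autoImplicit false
set_option linter.unusedSectionVars false

namespace CfsgLib.SuzukiUniq

open MulAction CfsgLib.Char CfsgLib.Char.Zassenhaus CfsgLib.Classical22.CTK
open CfsgLib.ZassenhausSimple.Suz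

variable {F : Type} [Field F] [Fintype F] [CharP F 2]

/-- The generators of the permutation group of a datum. -/
def gens (φ : F ≃+* F) (W : Option (F × F) → Option (F × F)) :
    Set (Equiv.Perm (Option (F × F))) :=
  {g | (∃ u, ∀ x, g x = Lt φ u x) ∨ (∃ l : F, l ≠ 0 ∧ ∀ x, g x = St φ l x) ∨ ∀ x, g x = W x}

/-- `G` is the permutation group of the datum. -/
def Modelled (φ : F ≃+* F) (W : Option (F × F) → Option (F × F)) (G : Type*) [Group G] : Prop :=
  ∃ f : G →* Equiv.Perm (Option (F × F)), Function.Injective f ∧ f.range = Subgroup.closure (gens φ W)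

theorem Modelled.iso {φ : F ≃+* F} {W : Option (F × F) → Option (F × F)} {G G' : Type*} [Group G]
    [Group G'] (h : Modelled φ W G) (h' : Modelled φ W G') : Nonempty (G ≃* G') := by
  obtain ⟨f, hf, hr⟩ := h
  obtain ⟨f', hf', hr'⟩ := h'
  exact ⟨(MonoidHom.ofInjective hf).trans
    ((MulEquiv.subgroupCongr (hr.trans hr'.symm)).trans (MonoidHom.ofInjective hf').symm)⟩

theorem Modelled.flipped {φ : F ≃+* F} {W : Option (F × F) → Option (F × F)} {G : Type*} [Group G]
    (h : Modelled φ W G) :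
    Modelled φ.symm ((flip φ).optionCongr ∘ W ∘ (flip φ).optionCongr.symm) G := by
  obtain ⟨f, hf, hr⟩ := h
  let P := (flip φ).optionCongr
  let C : Equiv.Perm (Option (F × F)) ≃* Equiv.Perm (Option (F × F)) := MulAut.conj P
  refine ⟨C.toMonoidHom.comp f, C.injective.comp hf, ?_⟩
  have hC : ∀ g x, C g (P x) = P (g x) := fun g x => by
    simp [C, MulAut.conj_apply, Equiv.Perm.mul_apply]
  have hL : ∀ u x, P (Lt φ u x) = Lt φ.symm (flip φ u) (P x) := flip_Lt
  have hS : ∀ l x, P (St φ l x) = St φ.symm (φ l) (P x) := flip_St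
  rw [MonoidHom.range_comp, hr, MonoidHom.map_closure]
  congr 1
  ext g
  constructor
  · rintro ⟨g₀, h₀ | h₀ | h₀, rfl⟩
    · obtain ⟨u, hu⟩ := h₀
      refine Or.inl ⟨flip φ u, fun x => ?_⟩
      obtain ⟨y, rfl⟩ := P.surjective x
      show C g₀ (P y) = _
      rw [hC, hu, hL]
    · obtain ⟨l, hl, hu⟩ := h₀
      refine Or.inr (Or.inl ⟨φ l, fun e => hl (φ.injective (e.trans (map_zero φ).symm)), fun x => ?_⟩)
      obtain ⟨y, rfl⟩ := P.surjective x
      show C g₀ (P y) = _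
      rw [hC, hu, hS]
    · refine Or.inr (Or.inr fun x => ?_)
      obtain ⟨y, rfl⟩ := P.surjective x
      show C g₀ (P y) = _
      rw [hC, h₀]
      show P (W y) = P (W (P.symm (P y)))
      rw [Equiv.symm_apply_apply]
  · intro hg
    refine ⟨C.symm g, ?_, C.apply_symm_apply g⟩
    have hg' : ∀ x, P (C.symm g x) = g (P x) := fun x => by
      rw [← hC, C.apply_symm_apply]
    rcases hg with ⟨u, hu⟩ | ⟨l, hl, hu⟩ | hu
    · refine Or.inl ⟨(flip φ).symm u, fun x => P.injective ?_⟩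
      rw [hg', hu, hL, Equiv.apply_symm_apply]
    · refine Or.inr (Or.inl ⟨φ.symm l, fun e => hl (φ.symm.injective (e.trans (map_zero _).symm)),
        fun x => P.injective ?_⟩)
      rw [hg', hu, hS, φ.apply_symm_apply]
    · refine Or.inr (Or.inr fun x => P.injective ?_)
      rw [hg', hu]
      show P (W (P.symm (P x))) = P (W x)
      rw [Equiv.symm_apply_apply]

variable {G Ω : Type*} [Group G] [Fintype G] [MulAction G Ω] [Fintype Ω] {a b : Ω} {H : Subgroup G}

/-- The datum of a simple Zassenhaus group with non-abelian kernel of order `q²`. -/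
theorem exists_datum (D : ZData a b H) {n : ℕ} (hn : Odd n) (hd : kk G a b + 1 = 2 ^ n)
    (hh : Nat.card H = (2 ^ n) ^ 2) (hF : Fintype.card F = 2 ^ n) :
    ∃ (φ : F ≃+* F) (c : F) (W : Option (F × F) → Option (F × F)),
      φ ≠ RingEquiv.refl F ∧ Function.Injective (nm φ) ∧ Datum φ c W ∧ Modelled φ W G := by
  classical
  haveI := D.simple
  haveI : FaithfulSMul G Ω := D.hZ.1
  obtain ⟨hcyc, v, hv2, hva, hvb, hvinv⟩ := Cfsg.Agent.S0345.result D.hZ D.hab
  haveI := hcyc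
  obtain ⟨k, hk⟩ := IsCyclic.exists_generator (α := ↥(stabilizer G a ⊓ stabilizer G b : Subgroup G))
  have hka : (k : G) • a = a := k.2.1
  have hkb : (k : G) • b = b := k.2.2
  -- coordinates
  let toAut : ↥(stabilizer G a) →* MulAut H :=
    H.normalizerMonoidHom.comp (Subgroup.inclusion D.le_normalizer)
  let φ₀ : MulAut H := toAut ⟨k, k.2.1⟩
  have hφpow : ∀ (i : ℕ) (u : H), (((φ₀ ^ i) u : H) : G) = (k : G) ^ i * u * ((k : G) ^ i)⁻¹ := by
    intro i u
    rw [← map_pow]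
    rfl
  have hkpow : ∀ x ∈ (stabilizer G a ⊓ stabilizer G b : Subgroup G), ∃ i : ℕ, x = (k : G) ^ i := by
    intro x hx
    obtain ⟨i, hi⟩ := (isOfFinOrder_of_finite k).mem_powers_iff_mem_zpowers.2 (hk ⟨x, hx⟩)
    exact ⟨i, (congrArg Subtype.val hi).symm⟩
  have hord : ∀ u : H, u ≠ 1 → u * u = 1 → (u : G) ∈ H ∧ orderOf (u : G) = 2 := fun u h1 h2 =>
    ⟨u.2, orderOf_eq_prime (by rw [pow_two]; exact congrArg Subtype.val h2)
      fun e => h1 (Subtype.ext e)⟩
  have htr : CfsgLib.Suzuki.TwoGroup.Trans φ₀ := by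
    intro x y hx hx2 hy hy2
    obtain ⟨⟨g, hgE⟩, hg, -⟩ := D.involutions.2 x x.2 (hord x hx hx2).2 y y.2 (hord y hy hy2).2
    obtain ⟨i, rfl⟩ := hkpow g hgE
    exact ⟨i, Subtype.ext ((hφpow i x).trans hg)⟩
  have hzc : Nat.card (Subgroup.center H) = 2 ^ n := by rw [← card_zc, D.card_center, hd]
  obtain ⟨x₀, hx₀, y₀, hy₀, hne₀⟩ := D.hHna
  obtain ⟨φ, ν, e, hφne, hinj, he, hemul, hgen, heq⟩ := equivariant_coords D.hH2
    ⟨⟨x₀, hx₀⟩, ⟨y₀, hy₀⟩, fun h => hne₀ (congrArg Subtype.val h)⟩ φ₀ htr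
    (by rw [hzc, hh]) (F := F) (by rw [hF, hzc])
  have hn3 : 3 ≤ n := by
    have h3 := D.fdata.three_le_kk
    obtain ⟨j, rfl⟩ := hn
    rcases Nat.eq_zero_or_pos j with rfl | hj
    · have : (2 : ℕ) ^ (2 * 0 + 1) = 2 := rfl
      omega
    · omega
  let eG : F × F → G := fun u => (e u : G)
  have hemulG : ∀ u w, eG (op φ u w) = eG u * eG w := fun u w => congrArg Subtype.val (hemul u w)
  have hea : ∀ u, eG u • a = a := fun u => D.hHa (e u).2
  have he0 : eG (0, 0) = 1 := by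
    have h := hemulG (0, 0) (0, 0)
    rw [op_zero] at h
    exact left_eq_mul.mp h
  have heinv : ∀ u, eG (iv φ u) = (eG u)⁻¹ := fun u => eq_inv_of_mul_eq_one_right (by
    rw [← hemulG, op_iv, he0])
  have hconj : ∀ (i : ℕ) u, (k : G) ^ i * eG u * ((k : G) ^ i)⁻¹ = eG (sc φ (ν ^ i) u) := by
    intro i u
    rw [← hφpow]
    refine congrArg Subtype.val ?_
    induction i generalizing u with
    | zero => simp [sc_one]
    | succ i ih =>
      rw [pow_succ, MulAut.mul_apply, heq, ih, sc_sc, pow_succ]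
  -- points
  have hsmb : ∀ u, eG u • b ≠ a := fun u h => D.hab (smul_left_cancel (eG u) ((hea u).trans h.symm))
  let pt : Option (F × F) → Ω := fun x => x.elim a fun u => eG u • b
  have hpt : Function.Bijective pt := by
    refine ⟨?_, fun z => ?_⟩
    · rintro (_ | u) (_ | w) h
      · rfl
      · exact absurd h.symm (hsmb w)
      · exact absurd h (hsmb u)
      · exact congrArg some (he.1 ((D.regular D.hab.symm (hsmb w)).unique h rfl))
    · by_cases hz : z = a
      · exact ⟨none, hz.symm⟩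
      · obtain ⟨u, hu, -⟩ := D.regular D.hab.symm hz
        obtain ⟨u', rfl⟩ := he.2 u
        exact ⟨some u', hu⟩
  let P : Option (F × F) ≃ Ω := Equiv.ofBijective pt hpt
  let f : G →* Equiv.Perm (Option (F × F)) :=
    (P.symm.permCongrHom.toMonoidHom).comp (MulAction.toPermHom G Ω)
  have hf : ∀ g x, pt (f g x) = g • pt x := fun g x => by
    show P (P.symm.permCongr (MulAction.toPerm g) x) = g • P x
    simp [Equiv.permCongr_apply]
  have hfinj : Function.Injective f := fun g g' h => by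
    refine eq_of_smul_eq_smul (α := Ω) fun z => ?_
    obtain ⟨x, rfl⟩ := hpt.2 z
    rw [← hf, ← hf, h]
  have hfe : ∀ u x, f (eG u) x = Lt φ u x := fun u x => hpt.1 (by
    rw [hf]
    rcases x with _ | w
    · exact hea u
    · show eG u • eG w • b = eG (op φ u w) • b
      rw [hemulG, mul_smul])
  have hkpowa : ∀ i : ℕ, (k : G) ^ i • a = a ∧ (k : G) ^ i • b = b := fun i =>
    ⟨(pow_mem k.2.1 i : _ ∈ stabilizer G a), (pow_mem k.2.2 i : _ ∈ stabilizer G b)⟩
  have hfk : ∀ (i : ℕ) x, f ((k : G) ^ i) x = St φ (ν ^ i) x := fun i x => hpt.1 (by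
    rw [hf]
    rcases x with _ | w
    · exact (hkpowa i).1
    · show (k : G) ^ i • eG w • b = eG (sc φ (ν ^ i) w) • b
      rw [← hconj, mul_smul, mul_smul]
      congr 2
      exact (inv_smul_eq_iff.mpr (hkpowa i).2.symm).symm)
  have hν : ν ≠ 0 := by
    rintro rfl
    obtain ⟨x, hx0, hx1⟩ := exists_ne_zero_one hF hn3
    obtain ⟨i, rfl⟩ := hgen x hx0
    rcases Nat.eq_zero_or_pos i with rfl | hi
    · exact hx1 (pow_zero _)
    · exact hx0 (zero_pow hi.ne')
  -- normalise the involution exchanging the base points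
  have hvv : v * v = 1 := by rw [← pow_two, ← hv2, pow_orderOf_eq_one]
  have hs2 : orderOf (eG (0, 1)) = 2 := by
    refine orderOf_eq_prime ?_ fun h => ?_
    · rw [pow_two, ← hemulG, ← he0]
      exact congrArg eG (by simp [op, CharTwo.add_self_eq_zero])
    · have := he.1 (Subtype.ext (h.trans he0.symm) : e (0, 1) = e (0, 0))
      simp at this
  have hdecomp : ∀ (w : G), w • a = b → w • b = a → ∀ u, u ≠ (0, 0) →
      ∃ x y, ∃ i : ℕ, w * eG u * w = eG x * w * (k : G) ^ i * eG y := by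
    intro w hwa hwb u hu
    have hz : eG u • b ≠ b := fun h => hu (Option.some.inj
      (hpt.1 (show pt (some u) = pt (some (0, 0)) by
        show eG u • b = eG (0, 0) • b
        rw [he0, one_smul]; exact h)))
    obtain ⟨x', hx'⟩ := hpt.2 (w • eG u • b)
    rcases x' with _ | x
    · exact absurd (smul_left_cancel w (hwb.trans hx')).symm hz
    have hx : eG x • b = w • eG u • b := hx'
    refine ⟨x, ?_⟩
    obtain ⟨g, hg⟩ : ∃ g, g = w⁻¹ * (eG x)⁻¹ * (w * eG u * w) := ⟨_, rfl⟩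
    have hga : g • a = a := by
      rw [hg, mul_smul, mul_smul, mul_smul, mul_smul, hwa, ← hx, inv_smul_smul,
        inv_smul_eq_iff, hwa]
    obtain ⟨y', hy', -⟩ := D.regular D.hab.symm
      (show g⁻¹ • b ≠ a from fun h => D.hab (by
        rw [inv_smul_eq_iff, hga] at h
        exact h.symm))
    obtain ⟨y, rfl⟩ := he.2 y'
    have hy : eG y • b = g⁻¹ • b := hy'
    have hE : g * eG y ∈ (stabilizer G a ⊓ stabilizer G b : Subgroup G) :=
      ⟨show (g * eG y) • a = a by rw [mul_smul, hea, hga],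
        show (g * eG y) • b = b by rw [mul_smul, hy, smul_inv_smul]⟩
    obtain ⟨i, hi⟩ := hkpow _ hE
    refine ⟨iv φ y, i, ?_⟩
    rw [mul_assoc (eG x * w), ← hi, heinv, hg]
    group
  obtain ⟨x₁, y₁, i₁, h₁⟩ := hdecomp v hva hvb (0, 1) (by simp)
  have hkodd : Odd (orderOf (k : G)) :=
    Odd.of_dvd_nat D.hodd (Subgroup.orderOf_dvd_natCard _ k.2)
  obtain ⟨m, hm⟩ : ∃ m : ℕ, (k : G) ^ (2 * m + i₁) = 1 := by
    obtain ⟨r, hr⟩ := hkodd
    refine ⟨r * i₁, orderOf_dvd_iff_pow_eq_one.mp ⟨i₁, ?_⟩⟩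
    rw [hr]; ring
  have hkinv : ∀ i : ℕ, v * (k : G) ^ i = ((k : G) ^ i)⁻¹ * v := fun i => by
    rw [← hvinv _ (pow_mem k.2 i)]; group
  obtain ⟨w, hw⟩ : ∃ w, w = v * (k : G) ^ (2 * m) := ⟨_, rfl⟩
  have hwa : w • a = b := by rw [hw, mul_smul, (hkpowa _).1, hva]
  have hwb : w • b = a := by rw [hw, mul_smul, (hkpowa _).2, hvb]
  have hww : w * w = 1 := by
    rw [hw, show v * (k : G) ^ (2 * m) * (v * (k : G) ^ (2 * m)) =
      (v * (k : G) ^ (2 * m) * v) * (k : G) ^ (2 * m) by group, hkinv, mul_assoc _ v v, hvv]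
    group
  have hwk : ∀ i : ℕ, w * (k : G) ^ i = ((k : G) ^ i)⁻¹ * w := fun i => by
    rw [hw, mul_assoc, ← pow_add, add_comm, pow_add, ← mul_assoc, hkinv, mul_assoc]
  have hwform : ∃ x y, w * eG (0, 1) * w = eG x * w * eG y := by
    obtain ⟨K, hK⟩ : ∃ K : G, K = (k : G) ^ m := ⟨_, rfl⟩
    have hvK : v * K = K⁻¹ * v := hK ▸ hkinv m
    have hinvconj : ∀ u, ((k : G) ^ (2 * m))⁻¹ * eG u * (k : G) ^ (2 * m) =
        eG (sc φ (ν ^ (2 * m))⁻¹ u) := fun u => by
      conv_lhs => rw [← sc_one (φ := φ) u, ← mul_inv_cancel₀ (pow_ne_zero (2 * m) hν), ← sc_sc,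
        ← hconj]
      group
    refine ⟨sc φ (ν ^ (2 * m))⁻¹ x₁, sc φ (ν ^ (2 * m))⁻¹ y₁, ?_⟩
    have hwK : w = K⁻¹ * v * K := by
      rw [hw, two_mul, pow_add, ← hK, ← mul_assoc, hvK]
    have h2K : (k : G) ^ (2 * m) = K * K := by rw [two_mul, pow_add, hK]
    rw [← hinvconj, ← hinvconj, h2K]
    calc w * eG (0, 1) * w = K⁻¹ * (v * K) * eG (0, 1) * (K⁻¹ * v) * K := by rw [hwK]; group
      _ = K⁻¹ * (K⁻¹ * v) * eG (0, 1) * (v * K) * K := by rw [hvK]
      _ = K⁻¹ * K⁻¹ * (v * eG (0, 1) * v) * (K * K) := by group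
      _ = (K * K)⁻¹ * eG x₁ * (K * K) * ((K * K)⁻¹ * v * (k : G) ^ i₁ * (K * K)) *
            ((K * K)⁻¹ * eG y₁ * (K * K)) := by rw [h₁]; group
      _ = (K * K)⁻¹ * eG x₁ * (K * K) * w * ((K * K)⁻¹ * eG y₁ * (K * K)) := by
        congr 2
        rw [← h2K, ← hkinv, mul_assoc _ ((k : G) ^ i₁), ← pow_add, mul_assoc, ← pow_add,
          show 2 * m + (i₁ + 2 * m) = 2 * m + (2 * m + i₁) by ring, pow_add, hm, mul_one, hw]
  obtain ⟨x, y, hxy⟩ := hwform
  have hs1 : eG (0, 1) * eG (0, 1) = 1 := by rw [← pow_two, ← hs2, pow_orderOf_eq_one]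
  -- the two factors are inverse to one another
  have hxy' : eG x * w * eG y = (eG y)⁻¹ * w * (eG x)⁻¹ := by
    calc eG x * w * eG y = w * eG (0, 1) * w := hxy.symm
      _ = (w * eG (0, 1) * w)⁻¹ := by
        rw [mul_inv_rev, mul_inv_rev, inv_eq_of_mul_eq_one_right hww,
          inv_eq_of_mul_eq_one_right hs1, mul_assoc]
      _ = (eG x * w * eG y)⁻¹ := by rw [hxy]
      _ = (eG y)⁻¹ * w * (eG x)⁻¹ := by
        rw [mul_inv_rev, mul_inv_rev, inv_eq_of_mul_eq_one_right hww, mul_assoc]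
  obtain rfl : x = iv φ y := by
    have h := congrArg (fun g : G => g • a) hxy'
    simp only [mul_smul, hea, hwa, ← heinv] at h
    exact Option.some.inj (hpt.1 h)
  rw [heinv] at hxy
  obtain ⟨R, hR⟩ : ∃ R, R = eG y := ⟨_, rfl⟩
  obtain ⟨S, hS⟩ : ∃ S, S = eG (0, 1) := ⟨_, rfl⟩
  rw [← hR, ← hS] at hxy
  rw [← hS] at hs1
  have hSR : S * R = R * S := by
    rw [hR, hS, ← hemulG, ← hemulG]
    exact congrArg eG (by simp [op, add_comm])
  have hR2 : R * R = eG (0, φ y.1 * y.1) := by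
    rw [hR, ← hemulG]
    exact congrArg eG (by simp [op, CharTwo.add_self_eq_zero])
  have hR4 : R * R * (R * R) = 1 := by
    rw [hR2, ← hemulG, ← he0]
    exact congrArg eG (by simp [op, CharTwo.add_self_eq_zero])
  have hc2 : R⁻¹ * (w * S) * R = (w * S) * (w * S) := by
    calc R⁻¹ * (w * S) * R = R⁻¹ * w * (S * R) := by group
      _ = (R⁻¹ * w * R) * S := by rw [hSR]; group
      _ = (w * S * w) * S := by rw [hxy]
      _ = _ := by group
  have hck : ∀ N : ℕ, (R ^ N)⁻¹ * (w * S) * R ^ N = (w * S) ^ (2 ^ N) := by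
    intro N
    induction N with
    | zero => simp
    | succ N ih =>
      calc (R ^ (N + 1))⁻¹ * (w * S) * R ^ (N + 1)
          = (R ^ N)⁻¹ * (R⁻¹ * (w * S) * R) * R ^ N := by rw [pow_succ']; group
        _ = ((R ^ N)⁻¹ * (w * S) * R ^ N) * ((R ^ N)⁻¹ * (w * S) * R ^ N) := by rw [hc2]; group
        _ = (w * S) ^ (2 ^ (N + 1)) := by rw [ih, ← pow_add, pow_succ, mul_two]
  have h15 : (w * S) ^ 15 = 1 := by
    have h := hck 4
    rw [show R ^ 4 = R * R * (R * R) by rw [show 4 = 2 + 2 from rfl, pow_add, pow_two], hR4, inv_one, one_mul, mul_one,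
      show 2 ^ 4 = 15 + 1 from rfl, pow_succ] at h
    exact (right_eq_mul.mp h)
  have h3 : ¬ 3 ∣ Nat.card G := by
    rw [← card_group D.hZ D.hab, ← D.hHcard, Nat.add_sub_cancel, hh,
      show Nat.card ↥(stabilizer G a ⊓ stabilizer G b : Subgroup G) = kk G a b from rfl]
    obtain ⟨j, hj⟩ := hn
    have hq : 2 ^ n % 3 = 2 := by
      rw [hj, pow_succ, pow_mul, Nat.mul_mod, Nat.pow_mod]
      norm_num
    intro h
    have h1 : kk G a b % 3 = 1 := by omega
    have h2 := Nat.dvd_iff_mod_eq_zero.mp h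
    rw [Nat.mul_mod, Nat.mul_mod ((2 ^ n) ^ 2 + 1), Nat.add_mod, Nat.pow_mod, hq, h1] at h2
    norm_num at h2
  have h5 : (w * S) ^ 5 = 1 := by
    refine orderOf_dvd_iff_pow_eq_one.mp ?_
    have hd15 : orderOf (w * S) ∣ 3 * 5 := orderOf_dvd_of_pow_eq_one h15
    refine ((Nat.prime_three.coprime_iff_not_dvd.mpr fun h => h3 (h.trans ?_)).symm).dvd_of_dvd_mul_left hd15
    exact orderOf_dvd_natCard _
  have hSx : S * (w * S) * S = (w * S)⁻¹ := by
    rw [mul_inv_rev, inv_eq_of_mul_eq_one_right hww, inv_eq_of_mul_eq_one_right hs1,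
      ← mul_assoc, mul_assoc _ S S, hs1, mul_one]
  have hRx : (R * R)⁻¹ * (w * S) * (R * R) = (w * S)⁻¹ := by
    rw [← pow_two, hck, show (2 : ℕ) ^ 2 = 4 from rfl]
    exact eq_inv_of_mul_eq_one_left (by rw [← pow_succ, h5])
  have hRS : R * R = S := by
    by_contra hne
    obtain ⟨z, hz⟩ : ∃ z, z = R * R * S := ⟨_, rfl⟩
    have hz1 : z ≠ 1 := fun h => hne (by
      calc R * R = R * R * (S * S) := by rw [hs1, mul_one]
        _ = S := by rw [← mul_assoc, ← hz, h, one_mul])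
    have hz2 : z * z = 1 := by
      rw [hz, hR2, hS, ← hemulG, ← hemulG, ← he0]
      exact congrArg eG (by simp [op, CharTwo.add_self_eq_zero])
    have hzH : z ∈ H := hz ▸ H.mul_mem (H.mul_mem (hR ▸ (e y).2) (hR ▸ (e y).2)) (hS ▸ (e _).2)
    have hzz : z ∈ zc H := (D.zc_iff hz1).mpr ⟨hzH, orderOf_eq_prime (by rw [pow_two, hz2]) hz1⟩
    have hcomm : z⁻¹ * (w * S) * z = w * S := by
      rw [hz, show (R * R * S)⁻¹ * (w * S) * (R * R * S) =
        S⁻¹ * ((R * R)⁻¹ * (w * S) * (R * R)) * S by group, hRx, ← hSx,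
        inv_eq_of_mul_eq_one_right hs1]
      calc S * (S * (w * S) * S) * S = (S * S) * (w * S) * (S * S) := by group
        _ = w * S := by rw [hs1, one_mul, mul_one]
    have hmem : w * S ∈ H := (D.cent_iff hzz hz1).mp (by
      conv_rhs => rw [← hcomm]
      group)
    have := mem_stabilizer_iff.mp (D.hHa hmem)
    rw [mul_smul, hS, hea, hwa] at this
    exact D.hab this.symm
  obtain ⟨y₁', c⟩ := y
  have hy1 : y₁' = 1 := by
    have h := hRS.symm.trans hR2
    rw [hS] at h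
    have h' := congrArg Prod.snd (he.1 (Subtype.ext h))
    refine hinj ?_
    rw [nm_one, nm, mul_comm]
    exact h'.symm
  subst hy1
  -- the datum
  have hiv : iv φ ((1 : F), c) = (1, c + 1) := by simp [iv]
  have hfS : ∀ i : ℕ, ∀ x, f ((k : G) ^ i)⁻¹ x = St φ (ν ^ i)⁻¹ x := fun i x => by
    rw [map_inv, Equiv.Perm.inv_eq_iff_eq, hfk]
    cases x with
    | none => rfl
    | some u => simp only [St, Option.map_some, sc_sc, mul_inv_cancel₀ (pow_ne_zero i hν), sc_one]
  refine ⟨φ, c, f w, hφne, hinj, ⟨?_, fun x => ?_, fun l hl x => ?_, fun x => ?_⟩, f, hfinj, ?_⟩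
  · exact hpt.1 (by rw [hf]; show w • a = eG (0, 0) • b; rw [hwa, he0, one_smul])
  · rw [← Equiv.Perm.mul_apply, ← map_mul, hww, map_one, Equiv.Perm.one_apply]
  · obtain ⟨i, rfl⟩ := hgen l hl
    rw [← hfk, ← hfS, ← Equiv.Perm.mul_apply, ← map_mul, hwk, map_mul, Equiv.Perm.mul_apply]
  · rw [← hiv, ← hfe, ← hfe, ← hfe, heinv, ← hR, ← hS]
    simp only [← Equiv.Perm.mul_apply, ← map_mul]
    rw [← mul_assoc, hxy, ← mul_assoc]
  · refine le_antisymm ?_ ((Subgroup.closure_le _).mpr ?_)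
    · rintro _ ⟨g, rfl⟩
      have hS1 : ∀ u, eG u ∈ (Subgroup.closure (gens φ (f w))).comap f := fun u =>
        Subgroup.subset_closure (Or.inl ⟨u, hfe u⟩)
      have hS2 : ∀ i : ℕ, (k : G) ^ i ∈ (Subgroup.closure (gens φ (f w))).comap f := fun i =>
        Subgroup.subset_closure (Or.inr (Or.inl ⟨ν ^ i, pow_ne_zero i hν, hfk i⟩))
      have hSw : w ∈ (Subgroup.closure (gens φ (f w))).comap f :=
        Subgroup.subset_closure (Or.inr (Or.inr fun _ => rfl))
      have hstab : ∀ g : G, g • a = a → g ∈ (Subgroup.closure (gens φ (f w))).comap f := by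
        intro g hg
        obtain ⟨u', hu', -⟩ := D.regular D.hab.symm
          (show g • b ≠ a from fun h => D.hab.symm (smul_left_cancel g (h.trans hg.symm)))
        obtain ⟨u, rfl⟩ := he.2 u'
        have hu : eG u • b = g • b := hu'
        have hm : (eG u)⁻¹ * g ∈ (stabilizer G a ⊓ stabilizer G b : Subgroup G) :=
          ⟨show ((eG u)⁻¹ * g) • a = a by rw [mul_smul, hg, inv_smul_eq_iff, hea],
            show ((eG u)⁻¹ * g) • b = b by rw [mul_smul, inv_smul_eq_iff, hu]⟩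
        obtain ⟨i, hi⟩ := hkpow _ hm
        rw [show g = eG u * (k : G) ^ i by rw [← hi]; group]
        exact Subgroup.mul_mem _ (hS1 u) (hS2 i)
      by_cases hg : g • a = a
      · exact hstab g hg
      obtain ⟨x', hx'⟩ := hpt.2 (g • a)
      rcases x' with _ | u
      · exact absurd hx'.symm hg
      have hu : eG u • b = g • a := hx'
      have := hstab ((eG u * w)⁻¹ * g) (by rw [mul_smul, inv_smul_eq_iff, mul_smul, hwa, hu])
      show g ∈ (Subgroup.closure (gens φ (f w))).comap f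
      rw [show g = eG u * w * ((eG u * w)⁻¹ * g) by group]
      exact Subgroup.mul_mem _ (Subgroup.mul_mem _ (hS1 u) hSw) this
    · rintro g (⟨u, hu⟩ | ⟨l, hl, hu⟩ | hu)
      · exact ⟨eG u, Equiv.ext fun x => (hfe u x).trans (hu x).symm⟩
      · obtain ⟨i, rfl⟩ := hgen l hl
        exact ⟨(k : G) ^ i, Equiv.ext fun x => (hfk i x).trans (hu x).symm⟩
      · exact ⟨w, Equiv.ext fun x => (hu x).symm⟩

end CfsgLib.SuzukiUniq
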