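/-
Uniqueness of the Suzuki groups: a simple Zassenhaus group whose kernel is a non-abelian 2-group is a
Suzuki group.
-/
import Cfsg.Agent.Lib.SuzukiUniq.Model
import Cfsg.Agent.Lib.Suzuki.Facts
import Cfsg.Agent.S0327

set_option autoImplicit false
set_option linter.unusedSectionVars false

namespace CfsgLib.SuzukiUniq

open MulAction CfsgLib.Classical22.CTK CfsgLib.ZassenhausSimple.Suz

section Twist

variable {F : Type} [Field F] [Fintype F] [CharP F 2] {n : ℕ}

/-- The twist with `φ (φ x) ^ 2 = x` is unique. -/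
theorem twist_unique (hF : Fintype.card F = 2 ^ n) (hn : Odd n) {φ ψ : F ≃+* F}
    (hφ : ∀ x, φ (φ x) ^ 2 = x) (hψ : ∀ x, ψ (ψ x) ^ 2 = x) : φ = ψ := by
  have hsq : (fun x => φ (φ x)) = fun x => ψ (ψ x) := funext fun x =>
    frobenius_inj F 2 ((hφ x).trans (hψ x).symm)
  have hper : ∀ χ : F ≃+* F, (χ : F → F)^[n] = id := by
    intro χ
    obtain ⟨j, -, hj⟩ := exists_exponent hF χ
    have hi : ∀ (i : ℕ) (x : F), (χ : F → F)^[i] x = x ^ 2 ^ (j * i) := by
      intro i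
      induction i with
      | zero => intro x; simp
      | succ i ih =>
        intro x
        rw [Function.iterate_succ_apply', ih, hj, ← pow_mul, ← pow_add, Nat.mul_succ]
    funext x
    rw [hi, mul_comm j n, pow_mul, ← hF, FiniteField.pow_card_pow]
    rfl
  obtain ⟨i, hi⟩ := hn
  have key : ∀ (χ : F ≃+* F) (x : F), (fun y => χ (χ y))^[i + 1] x = χ x := by
    intro χ x
    rw [show (fun y => χ (χ y)) = (χ : F → F)^[2] from rfl, ← Function.iterate_mul,
      show 2 * (i + 1) = 1 + n by omega, Function.iterate_add_apply, hper]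
    rfl
  exact RingEquiv.ext fun x => by rw [← key φ, ← key ψ, hsq]

variable {G Ω : Type*} [Group G] [Fintype G] [MulAction G Ω] [Fintype Ω] {a b : Ω} {H : Subgroup G}

/-- The normalised datum. -/
theorem exists_normal (D : ZData a b H) (hn : Odd n) (hd : kk G a b + 1 = 2 ^ n)
    (hh : Nat.card H = (2 ^ n) ^ 2) (hn3 : 3 ≤ n) (hF : Fintype.card F = 2 ^ n) :
    ∃ (φ : F ≃+* F) (W : Option (F × F) → Option (F × F)),
      (∀ x, φ (φ x) ^ 2 = x) ∧ Function.Injective (nm φ) ∧ Datum φ 0 W ∧ Modelled φ W G := by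
  obtain ⟨φ, c, W, hne, hinj, DD, hM⟩ := exists_datum D hn hd hh hF
  rcases DD.const hF hn hn3 hne hinj with rfl | rfl
  · exact ⟨φ, W, DD.twist hF hn hinj, hinj, DD, hM⟩
  · have hinj' : Function.Injective (nm φ.symm) := fun x y e => by
      have : nm φ (φ.symm x) = nm φ (φ.symm y) := by simpa [nm, mul_comm] using e
      exact φ.symm.injective (hinj this)
    have DD' := DD.flipped
    rw [CharTwo.add_self_eq_zero] at DD'
    exact ⟨φ.symm, _, DD'.twist hF hn hinj', hinj', DD', hM.flipped⟩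

end Twist

variable {G Ω : Type*} [Group G] [Fintype G] [MulAction G Ω] [Fintype Ω] {a b : Ω} {H : Subgroup G}

/-- The orders of the kernel and the two-point stabiliser. -/
theorem orders_odd (D : ZData a b H) :
    ∃ n, Odd n ∧ 3 ≤ n ∧ kk G a b + 1 = 2 ^ n ∧ Nat.card H = (2 ^ n) ^ 2 := by
  obtain ⟨n, hn, hd, hh⟩ := D.orders
  have hh2 := hh.resolve_right fun h => D.not_cube hn hd h
  have ho := D.odd_exponent hn hd hh2
  obtain ⟨j, rfl⟩ := ho
  exact ⟨2 * j + 1, ⟨j, rfl⟩, by omega, hd, hh2⟩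

/-- **Suzuki's uniqueness theorem.** -/
theorem iso_suzuki (D : ZData a b H) : Cfsg.Lie.IsoSuzuki G := by
  classical
  obtain ⟨n, hn, hn3, hd, hh⟩ := orders_odd D
  obtain ⟨m, rfl⟩ := hn
  haveI : Fact (Nat.Prime 2) := ⟨Nat.prime_two⟩
  let F := GaloisField 2 (2 * m + 1)
  letI : Fintype F := Fintype.ofFinite F
  have hF : Fintype.card F = 2 ^ (2 * m + 1) := by
    rw [← Nat.card_eq_fintype_card, GaloisField.card 2 _ (by omega)]
  haveI : CharP F 2 := inferInstance
  have hm : 1 ≤ m := by omega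
  -- the Suzuki group as a Zassenhaus group
  have hZ := Cfsg.Agent.S0327.result (F := F) hm hF
  haveI : Fintype (Cfsg.Sz F m) := Fintype.ofFinite _
  haveI : Fintype (Cfsg.suzukiOvoid F m) := Fintype.ofFinite _
  haveI hsimp : IsSimpleGroup (Cfsg.Sz F m) := by
    haveI := CfsgLib.Suzuki.isSimple hF hm
    exact (CfsgLib.Suzuki.equiv hF hm).symm.isSimpleGroup
  have hU : CfsgLib.Suzuki.unip' hF ≤ stabilizer (Cfsg.Sz F m) (CfsgLib.Suzuki.inf (F := F) (m := m)) := by
    rintro _ ⟨_, ⟨x, y, rfl⟩, rfl⟩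
    exact CfsgLib.Suzuki.U_smul_inf hF x y
  have hfix : ∀ v ∈ CfsgLib.Suzuki.unip' hF, v ≠ 1 → ∀ p, v • p = p →
      p = (CfsgLib.Suzuki.inf : Cfsg.suzukiOvoid F m) := by
    intro v hv hv1 p hp
    obtain ⟨_, ⟨x, y, rfl⟩, rfl⟩ := hv
    by_contra hne
    obtain ⟨⟨x₀, y₀⟩, hab₀, -⟩ := CfsgLib.Suzuki.existsUnique_U hF hne
    subst hab₀
    rw [← mul_smul, ← map_mul, CfsgLib.SuzukiLaws.U_mul] at hp
    obtain ⟨ab, -, huniq⟩ := CfsgLib.Suzuki.existsUnique_U hF hne
    have h1 := (huniq (_, _) hp).trans (huniq (x₀, y₀) rfl).symm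
    simp only [Prod.mk.injEq] at h1
    obtain ⟨hx, hy⟩ := h1
    have hx0 : x = 0 := by simpa using hx
    subst hx0
    have hy0 : y = 0 := by simpa [zero_pow] using hy
    subst hy0
    exact hv1 (by rw [CfsgLib.SuzukiLaws.U_zero, map_one])
  have hcardU : Nat.card (CfsgLib.Suzuki.unip' hF) = (2 ^ (2 * m + 1)) ^ 2 := by
    rw [← Nat.card_congr (CfsgLib.Suzuki.unipEquiv hF).toEquiv, CfsgLib.Suzuki.card_unip, hF]
  have D' : ZData (CfsgLib.Suzuki.inf (F := F) (m := m)) CfsgLib.Suzuki.zero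
      (CfsgLib.Suzuki.unip' hF) := by
    refine ⟨hZ, hsimp, CfsgLib.Suzuki.inf_ne_zero, hU, ?_, hfix,
      IsPGroup.iff_card.mpr ⟨(2 * m + 1) * 2, by rw [hcardU, pow_mul]⟩, ?_⟩
    · rw [hcardU, ← Nat.card_eq_fintype_card, ← Nat.card_eq_of_bijective _ (CfsgLib.Suzuki.param_bijective m),
        Nat.card_eq_fintype_card, Fintype.card_option, Fintype.card_prod, hF, sq]
    · by_contra hc
      push Not at hc
      have htop : Subgroup.center (CfsgLib.Suzuki.unip hF) = ⊤ := eq_top_iff.mpr fun u _ =>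
        Subgroup.mem_center_iff.mpr fun g => (CfsgLib.Suzuki.unipEquiv hF).injective (by
          rw [map_mul, map_mul]
          exact Subtype.ext (hc _ (CfsgLib.Suzuki.unipEquiv hF g).2 _ (CfsgLib.Suzuki.unipEquiv hF u).2))
      have h := CfsgLib.Suzuki.card_center hF hm
      rw [htop, Subgroup.card_top, CfsgLib.Suzuki.card_unip, hF, sq] at h
      have h8 : 2 ^ 3 ≤ 2 ^ (2 * m + 1) := Nat.pow_le_pow_right two_pos hn3
      nlinarith
  obtain ⟨n', hn', hn3', hd', hh'⟩ := orders_odd D'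
  obtain rfl : n' = 2 * m + 1 := by
    rw [hcardU] at hh'
    exact (Nat.pow_right_injective le_rfl (Nat.pow_left_injective two_ne_zero hh')).symm
  obtain ⟨φ, W, hφ, hinj, DD, hM⟩ := exists_normal D ⟨m, rfl⟩ hd hh hn3 hF
  obtain ⟨ψ, W', hψ, -, DD', hM'⟩ := exists_normal D' ⟨m, rfl⟩ hd' hh' hn3 hF
  obtain rfl := twist_unique hF ⟨m, rfl⟩ hφ hψ
  obtain rfl := DD.unique (nm_bijective hinj) (no_root hF ⟨m, rfl⟩) DD'
  obtain ⟨e⟩ := hM.iso hM'
  exact ⟨F, inferInstance, inferInstance, m, hm, hF, ⟨e.trans (CfsgLib.Suzuki.equiv hF hm).symm⟩⟩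

/-- The version with a regular normal subgroup. -/
theorem iso_suzuki_of_regular {G Ω : Type*} [Group G] [Finite G] [MulAction G Ω] [Finite Ω]
    (hZ : Cfsg.IsZassenhausGroup G Ω) [IsSimpleGroup G] {a b : Ω} (hab : a ≠ b) (U : Subgroup G)
    (hUle : U ≤ MulAction.stabilizer G a)
    (hreg : ∀ c d : Ω, c ≠ a → d ≠ a → ∃! u : U, (u : G) • c = d)
    (hU2 : IsPGroup 2 U) (hUna : ∃ u ∈ U, ∃ v ∈ U, u * v ≠ v * u) : Cfsg.Lie.IsoSuzuki G := by
  classical
  haveI := Fintype.ofFinite G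
  haveI := Fintype.ofFinite Ω
  have hUfix : ∀ u ∈ U, u ≠ 1 → ∀ c : Ω, u • c = c → c = a := by
    intro u hu hu1 c hc
    by_contra hca
    exact hu1 (congrArg Subtype.val ((hreg c c hca hca).unique (y₁ := ⟨u, hu⟩) (y₂ := 1) hc
      (one_smul G c)))
  have hUcard : Nat.card U + 1 = Fintype.card Ω := by
    have hf : ∀ u : U, (u : G) • b ≠ a := fun u e => hab.symm (smul_left_cancel (u : G)
      (e.trans (MulAction.mem_stabilizer_iff.mp (hUle u.2)).symm))
    have hbij : Function.Bijective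
        (fun u : U => (⟨(u : G) • b, hf u⟩ : {c : Ω // c ≠ a})) :=
      ⟨fun u v e => (hreg b ((u : G) • b) hab.symm (hf u)).unique rfl
          (congrArg Subtype.val e).symm,
        fun c => (hreg b c hab.symm c.2).exists.imp fun u hu => Subtype.ext hu⟩
    rw [Nat.card_congr (Equiv.ofBijective _ hbij), Nat.card_eq_fintype_card,
      Fintype.card_subtype_compl, Fintype.card_subtype_eq]
    have : 0 < Fintype.card Ω := Fintype.card_pos_iff.mpr ⟨a⟩
    omega
  exact iso_suzuki ⟨hZ, inferInstance, hab, hUle, hUcard, hUfix, hU2, hUna⟩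

end CfsgLib.SuzukiUniq
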