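/-
Classification of the simple Zassenhaus groups up to isomorphism.
-/
import Cfsg.Agent.S0344
import Cfsg.Agent.S0885
import Cfsg.Agent.S0731
import Cfsg.Agent.S0738
import Cfsg.Agent.S0727
import Cfsg.Agent.Lib.SuzukiUniq.Main
import Cfsg.Agent.Lib.Classical.Dickson.PSLMap
import Cfsg.Agent.Lib.Classical.Dickson.MinIndex

set_option autoImplicit false

namespace CfsgLib.SuzukiUniq

/-- A finite simple Zassenhaus group is a two-dimensional projective linear group or a Suzuki group. -/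
theorem simple_zassenhaus {G Ω : Type*} [Group G] [Finite G] [MulAction G Ω]
    [Finite Ω] (hZ : Cfsg.IsZassenhausGroup G Ω) [IsSimpleGroup G] :
    (∃ (F : Type) (_ : Field F) (_ : Fintype F),
      Nonempty (G ≃* Matrix.ProjectiveSpecialLinearGroup (Fin 2) F)) ∨ Cfsg.Lie.IsoSuzuki G := by
  classical
  haveI := Fintype.ofFinite Ω
  obtain ⟨-, -, -, ⟨g₀, -, a, b, hab, -, -⟩, -⟩ := id hZ
  rcases Nat.even_or_odd (Nat.card ↥(MulAction.stabilizer G a ⊓ MulAction.stabilizer G b)) with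
    hev | hodd
  · obtain ⟨F, iF, iF', -, hiso⟩ := Cfsg.Agent.S0344.result hZ hab hev
    exact Or.inl ⟨F, iF, iF', hiso⟩
  obtain ⟨H, hHa, hHcard, hHfix⟩ := CfsgLib.Char.Zassenhaus.exists_kernel hZ hab
  have hreg : ∀ y z : Ω, y ≠ a → z ≠ a → ∃! u : H, (u : G) • y = z := by
    intro y z hy hz
    have hbij := CfsgLib.Char.Zassenhaus.bijective_smul hZ hy.symm hHa hHcard hHfix
    obtain ⟨u, hu⟩ := hbij.2 ⟨z, hz⟩
    exact ⟨u, congrArg Subtype.val hu, fun v hv => hbij.1 ((Subtype.ext hv).trans hu.symm)⟩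
  have hHn : (H.subgroupOf (MulAction.stabilizer G a)).Normal :=
    ⟨fun n hn g => Subgroup.mem_subgroupOf.mpr (CfsgLib.Char.Zassenhaus.conj_mem_kernel hZ hab hHa
      hHcard hHfix g.2 (Subgroup.mem_subgroupOf.mp hn))⟩
  by_cases hcomm : IsMulCommutative H
  swap
  · rcases Cfsg.Agent.S0885.result hZ hab (Nat.card H) _ hHcard.symm rfl hodd H hHa hHcard hHfix with
      hsmall | ⟨h2, hna, -⟩
    · exact absurd (Cfsg.Agent.S0738.result hZ hab (by omega) H hHa hHn hreg).1 hcomm
    · haveI := Fintype.ofFinite G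
      obtain ⟨u, v, huv⟩ := hna
      exact Or.inr (CfsgLib.SuzukiUniq.iso_suzuki ⟨hZ, inferInstance, hab, hHa, hHcard, hHfix, h2,
        ⟨u, u.2, v, v.2, fun e => huv (Subtype.ext e)⟩⟩)
  rcases Cfsg.Agent.S0731.result hZ a H hHa hHn hcomm hreg with
    ⟨h3, hsharp⟩ | ⟨K, iK, iK', -, hiso⟩
  swap
  · exact Or.inl ⟨K, iK, iK', hiso⟩
  -- sharply triply transitive: the kernel is an elementary abelian 2-group
  have hpts := CfsgLib.Char.Zassenhaus.three_le_points hZ hab
  set D : Subgroup G := MulAction.stabilizer G a ⊓ MulAction.stabilizer G b with hD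
  obtain ⟨c, hca, hcb⟩ : ∃ c : Ω, c ≠ a ∧ c ≠ b := by
    by_contra h
    push Not at h
    have hle := Finset.card_le_card
      (show (Finset.univ : Finset Ω) ⊆ {a, b} from fun x _ => by
        by_cases hx : x = a
        · simp [hx]
        · simp [h x hx])
    rw [Finset.card_univ, Finset.card_pair hab] at hle
    omega
  have htrans : ∀ x : {x : Ω // x ≠ a ∧ x ≠ b}, ∃ g : D, (g : G) • c = x := by
    intro x
    let e : ∀ z : Ω, z ≠ a → z ≠ b → Fin 3 ↪ Ω := fun z h1 h2 => ⟨![a, b, z], by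
      intro i j hij
      fin_cases i <;> fin_cases j <;> simp [hab, hab.symm, h1, h1.symm, h2, h2.symm] at hij ⊢⟩
    haveI := h3
    obtain ⟨g, hg⟩ := MulAction.exists_smul_eq G (e c hca hcb) (e x x.2.1 x.2.2)
    have hg' : ∀ i, g • (![a, b, c] i) = ![a, b, (x : Ω)] i := fun i =>
      congrArg (fun f : Fin 3 ↪ Ω => f i) hg
    exact ⟨⟨g, hg' 0, hg' 1⟩, hg' 2⟩
  have hdge : Fintype.card Ω - 2 ≤ Nat.card D := by
    choose f hf using htrans
    have hle := Nat.card_le_card_of_injective f fun x y e => Subtype.ext (by rw [← hf x, ← hf y, e])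
    rwa [Nat.card_eq_fintype_card, Fintype.card_subtype,
      show (Finset.univ.filter fun x : Ω => x ≠ a ∧ x ≠ b) = Finset.univ \ {a, b} by ext; simp,
      Finset.card_sdiff_of_subset (Finset.subset_univ _), Finset.card_pair hab, Finset.card_univ] at hle
  obtain ⟨k, hk⟩ := CfsgLib.ZassenhausSimple.card_dvd hZ hab
  have hdeq : Fintype.card Ω - 2 = Nat.card D := by
    exact le_antisymm hdge (Nat.le_of_dvd (show 0 < Fintype.card Ω - 2 by omega) ⟨k, hk⟩)
  have hdle : Fintype.card Ω - 2 ≤ 2 * Nat.card D := by omega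
  obtain ⟨-, p, f, hp, -, hpf⟩ := Cfsg.Agent.S0738.result hZ hab hdle H hHa hHn hreg
  have hf1 : 1 ≤ f := Nat.one_le_iff_ne_zero.mpr fun h => by rw [h, pow_zero] at hpf; omega
  have hp2 : p = 2 := by
    by_contra hne
    obtain ⟨j, hj⟩ := (hp.odd_of_ne_two hne).pow (n := f)
    obtain ⟨i, hi⟩ := hodd
    omega
  subst hp2
  let φ : G →* Equiv.Perm Ω := MulAction.toPermHom G Ω
  haveI : FaithfulSMul G Ω := hZ.1
  have hinj : Function.Injective φ := MulAction.toPerm_injective
  have hsm : ∀ (g : G) (z : Ω), φ.rangeRestrict g • z = g • z := fun g z => rfl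
  haveI := h3
  have hpre : MulAction.IsMultiplyPretransitive φ.range Ω 3 := by
    refine ⟨fun x y => ?_⟩
    obtain ⟨g, hg⟩ := MulAction.exists_smul_eq G x y
    exact ⟨φ.rangeRestrict g, DFunLike.ext _ _ fun i => DFunLike.congr_fun hg i⟩
  obtain ⟨F, iF, iF', hF, ⟨i⟩⟩ := Cfsg.Agent.S0727.result hf1 hpf φ.range hpre (fun x => by
    rw [Subgroup.eq_bot_iff_forall]
    rintro ⟨-, g, rfl⟩ hg
    have hg' : g ∈ MulAction.stabilizer G x :=
      DFunLike.ext _ _ fun i => DFunLike.congr_fun (MulAction.mem_stabilizer_iff.mp hg) i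
    rw [hsharp x, Subgroup.mem_bot] at hg'
    subst hg'
    exact Subtype.ext (map_one φ))
  have hbijK : Function.Bijective
      (Matrix.ProjectiveSpecialLinearGroup.toPGL (n := Fin 2) (R := F)) := by
    haveI : Finite (Matrix.ProjGenLinGroup (Fin 2) F) :=
      Finite.of_surjective _ Matrix.ProjGenLinGroup.mk_surjective
    refine (Nat.bijective_iff_injective_and_card _).2
      ⟨Matrix.ProjectiveSpecialLinearGroup.toPGL_injective (n := Fin 2) (R := F), ?_⟩
    have h := CfsgLib.Classical.Dickson.gcd_mul_card_PSL (F := F) hF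
    have hgcd : Nat.gcd 2 (2 ^ f - 1) = 1 := by
      refine Nat.prime_two.coprime_iff_not_dvd.2 ?_
      have : 2 ∣ 2 ^ f := dvd_pow_self 2 (by omega)
      omega
    rw [hgcd, one_mul] at h
    rw [h, CfsgLib.Classical.Dickson.card_pgl hF]
  exact Or.inl ⟨F, iF, iF',
    ⟨(MonoidHom.ofInjective hinj).trans (i.trans (MulEquiv.ofBijective _ hbijK).symm)⟩⟩

end CfsgLib.SuzukiUniq
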